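import Groth.Agent.AbCohLib.IndexField

/-!
# The index of the inverse of a non-degenerate module
-/

set_option autoImplicit false
set_option linter.style.haveILetI false
set_option linter.unusedSectionVars false
set_option backward.isDefEq.respectTransparency.types false
set_option maxHeartbeats 3200000

universe u

open CategoryTheory CategoryTheory.Limits MonoidalCategory CartesianMonoidalCategory MonObj GrpObj AlgebraicGeometry
  Opposite TopologicalSpace
open Groth.Agent Groth.Agent.PicLib Groth.Agent.AbCubeLib Groth.Agent.Coherent Groth.Agent.Coherent.CohBC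
  Groth.Agent.AbCohLib

namespace Groth.Agent.AbIdx19

variable {k : Type u} [Field k] {A : Over (Spec (CommRingCat.of k))} [GrpObj A] [IsProper A.hom]
  [GeometricallyIntegral A.hom] {L L' : A.left.Modules}

variable [IsAlgClosed k] (hL : PicF.IsInvertible L) (hL' : PicF.IsInvertible L')
  (hll : PicM.of hL * PicM.of hL' = 1)
  (hfin : Set.Finite {x : 𝟙_ (Over (Spec (CommRingCat.of k))) ⟶ A |
      Nonempty ((Scheme.Modules.pullback (𝟙 A * (toUnit A ≫ x)).left).obj L ≅ L)})

include hll hfin in
/-- The indices of a non-degenerate module and of its inverse add up to the dimension. -/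
theorem exists_index_pair {g : ℕ} (hg : topologicalKrullDim A.left = g) :
    ∃ i i' : ℕ, i + i' = g ∧
      ((∀ j : ℕ, j ≠ i → Subsingleton (Coh.HH A.left L j)) ∧ Nontrivial (Coh.HH A.left L i)) ∧
      ((∀ j : ℕ, j ≠ i' → Subsingleton (Coh.HH A.left L' j)) ∧ Nontrivial (Coh.HH A.left L' i')) := by
  classical
  obtain ⟨hne, hg'⟩ := cohomology_shear hL hL' hll hfin hg
  haveI : IsIntegral A.left := GeometricallyIntegral.isIntegral_of_subsingleton A.hom
  haveI : A.left.IsSeparated := Scheme.IsSeparated.mk (by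
    rw [← terminal.comp_from A.hom]; infer_instance)
  haveI : IsNoetherian A.left := {
    LocallyOfFiniteType.isLocallyNoetherian A.hom, QuasiCompact.compactSpace_of_compactSpace A.hom with }
  letI : A.left.Over (Spec (CommRingCat.of k)) := ⟨A.hom⟩
  haveI : IsProper (A.left ↘ Spec (CommRingCat.of k)) := ‹IsProper A.hom›
  have hbox : ∀ n, Subsingleton (Coh.HH (A ⊗ A).left (shearMod L L') n) ↔
      Subsingleton (Coh.HH (A ⊗ A).left (boxMod L L') n) := by
    intro n
    haveI hp : IsProper (A ⊗ A).hom := inferInstanceAs (IsProper (pullback.fst A.hom A.hom ≫ A.hom))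
    haveI : IsIso (shear A).hom.left := inferInstanceAs (IsIso ((Over.forget _).map (shear A).hom))
    haveI : Coh.IsQCoh (boxMod L L') := AmpleLib.isQCoh_of_isInvertible (isInvertible_boxMod hL hL')
    refine ⟨fun h => ?_, fun h => CohEdge27.subsingleton_HH_pullback_iso (shear A).hom.left (A ⊗ A).hom _ n h⟩
    haveI : IsProper ((shear A).hom.left ≫ (A ⊗ A).hom) := inferInstance
    haveI : Coh.IsQCoh (shearMod L L') := AmpleLib.isQCoh_of_isInvertible (isInvertible_shearMod hL hL')
    exact FlatMorStrat.subsingleton_HH_of_iso ((Scheme.Modules.pullbackComp (inv (shear A).hom.left) (shear A).hom.left).app _ ≪≫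
      (Scheme.Modules.pullbackCongr (IsIso.inv_hom_id (shear A).hom.left)).app _ ≪≫ (Scheme.Modules.pullbackId _).app _) n
      (CohEdge27.subsingleton_HH_pullback_iso (inv (shear A).hom.left) ((shear A).hom.left ≫ (A ⊗ A).hom) (shearMod L L') n h)
  have hdim : ∀ (M : A.left.Modules), PicF.IsInvertible M → ∀ j, g < j → Subsingleton (Coh.HH A.left M j) :=
    fun M hM j hj => by
      haveI : Coh.IsQCoh M := AmpleLib.isQCoh_of_isInvertible hM
      exact EulerLib.subsingleton_HH_of_dim _ hg.le hj
  -- both extreme degrees add up to `g`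
  have hex : ∀ M : A.left.Modules, PicF.IsInvertible M → (∀ j, Subsingleton (Coh.HH A.left M j)) ∨
      ∃ a b : ℕ, ¬ Subsingleton (Coh.HH A.left M a) ∧ ¬ Subsingleton (Coh.HH A.left M b) ∧
        (∀ j, j < a → Subsingleton (Coh.HH A.left M j)) ∧ (∀ j, b < j → Subsingleton (Coh.HH A.left M j)) := by
    intro M hM
    by_cases h : ∀ j, Subsingleton (Coh.HH A.left M j)
    · exact Or.inl h
    push Not at h
    obtain ⟨j, hj⟩ := h
    have hP : ∃ j, ¬ Subsingleton (Coh.HH A.left M j) := ⟨j, not_subsingleton_iff_nontrivial.2 hj⟩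
    refine Or.inr ⟨Nat.find hP, Nat.findGreatest (fun j => ¬ Subsingleton (Coh.HH A.left M j)) g,
      Nat.find_spec hP, ?_, fun i hi => not_not.1 (Nat.find_min hP hi), fun i hi => ?_⟩
    · refine Nat.findGreatest_spec (P := fun j => ¬ Subsingleton (Coh.HH A.left M j)) (m := Nat.find hP) ?_ (Nat.find_spec hP)
      by_contra hgt
      exact Nat.find_spec hP (hdim M hM _ (not_le.1 hgt))
    · rcases le_or_gt i g with hi' | hi'
      · exact not_not.1 (Nat.findGreatest_is_greatest hi hi')
      · exact hdim M hM _ hi'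
  have hzero : ∀ n, n ≠ g → Subsingleton (Coh.HH (A ⊗ A).left (boxMod L L') n) := fun n hn => (hbox n).1 (hne n hn)
  have hkey : ∀ a c, (∀ r : ℕ, 2 ≤ r → r ≤ a →
      Subsingleton (Coh.HH A.left L (a - r)) ∨ Subsingleton (Coh.HH A.left L' (c + r - 1))) →
      (∀ r : ℕ, 2 ≤ r → r ≤ c + 1 →
      Subsingleton (Coh.HH A.left L (a + r)) ∨ Subsingleton (Coh.HH A.left L' (c + 1 - r))) →
      ¬ Subsingleton (Coh.HH A.left L a) → ¬ Subsingleton (Coh.HH A.left L' c) → a + c = g := by
    intro a c hs ht ha hc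
    by_contra hne'
    exact (subsingleton_or_of_corner A A L L' hL hL' a c hs ht (hzero _ hne')).elim ha hc
  have hall : ¬ ∀ n, Subsingleton (Coh.HH (A ⊗ A).left (boxMod L L') n) := fun h => hg' ((hbox g).2 (h g))
  obtain ⟨a, b, ha, hb, hlo, hhi⟩ := (hex L hL).resolve_left fun h => hall fun n =>
    subsingleton_boxM_of_acyclic A A L L' hL hL' (Or.inl h) n
  obtain ⟨a', b', ha', hb', hlo', hhi'⟩ := (hex L' hL').resolve_left fun h => hall fun n =>
    subsingleton_boxM_of_acyclic A A L L' hL hL' (Or.inr h) n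
  have e1 := hkey a a' (fun r hr hra => Or.inl (hlo _ (by omega))) (fun r hr hrc => Or.inr (hlo' _ (by omega))) ha ha'
  have e2 := hkey b b' (fun r hr hra => Or.inr (hhi' _ (by omega))) (fun r hr hrc => Or.inl (hhi _ (by omega))) hb hb'
  have hab : a ≤ b := le_of_not_gt fun h => ha (hhi _ h)
  have hab' : a' ≤ b' := le_of_not_gt fun h => ha' (hhi' _ h)
  refine ⟨a, a', e1, ⟨fun j hj => ?_, not_subsingleton_iff_nontrivial.1 ha⟩,
    ⟨fun j hj => ?_, not_subsingleton_iff_nontrivial.1 ha'⟩⟩
  · rcases lt_or_gt_of_ne hj with h | h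
    · exact hlo j h
    · exact hhi j (by omega)
  · rcases lt_or_gt_of_ne hj with h | h
    · exact hlo' j h
    · exact hhi' j (by omega)

end Groth.Agent.AbIdx19
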